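import Mathlib

/-!
# Linear maps commuting with a semilinear map (helper334, task 3014 for S4761)

`exists_dvd` : let `V` be a vector space of dimension `N` over the finite field `F`, `x ≠ 1` an element of `End V` with `x ^ s = 1`,
`s` a prime which is not the characteristic.  If `x` commutes with a bijection `g` of `V` which is semilinear with respect to the
automorphism `φ` of `F`, then `s ∣ q₀ ^ i - 1` for some `1 ≤ i ≤ N`, where `q₀` is the order of the fixed field of `φ`.
-/

set_option autoImplicit false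

namespace Cfsg.Agent.H334.Moved

open Polynomial

/-- The fixed field of `φ`. -/
abbrev fixF {F : Type*} [Field F] (φ : F ≃+* F) : Subfield F := (φ : F →+* F).eqLocusField (RingHom.id F)

theorem mem_fixF {F : Type*} [Field F] {φ : F ≃+* F} {a : F} : a ∈ fixF φ ↔ φ a = a := Iff.rfl

section

variable {F V : Type*} [Field F] [AddCommGroup V] [Module F V] [FiniteDimensional F V]

/-- The minimal polynomial of an endomorphism commuting with a semilinear bijection. -/
theorem map_minpoly (φ : F ≃+* F) (g : V → V) (hgs : Function.Bijective g) (hga : ∀ u v, g (u + v) = g u + g v)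
    (hg : ∀ (a : F) v, g (a • v) = φ a • g v) (x : Module.End F V) (hx : ∀ v, g (x v) = x (g v)) :
    (minpoly F x).map (φ : F →+* F) = minpoly F x := by
  have hint : IsIntegral F x := Algebra.IsIntegral.isIntegral x
  have hg0 : g 0 = 0 := by
    have := hga 0 0
    rw [add_zero] at this
    exact left_eq_add.1 this
  have hpow : ∀ (n : ℕ) (v : V), g ((x ^ n) v) = (x ^ n) (g v) := by
    intro n
    induction n with
    | zero => intro v; rfl
    | succ n ih => intro v; rw [pow_succ, Module.End.mul_apply, Module.End.mul_apply, ih, hx]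
  have key : ∀ (f : F[X]) (v : V), aeval x (f.map (φ : F →+* F)) (g v) = g (aeval x f v) := by
    intro f v
    induction f using Polynomial.induction_on with
    | C a =>
      simp only [Polynomial.map_C, aeval_C, Module.algebraMap_end_apply, hg]
      rfl
    | add f₁ f₂ h₁ h₂ =>
      simp only [Polynomial.map_add, map_add, LinearMap.add_apply, hga, h₁, h₂]
    | monomial n a _ =>
      simp only [Polynomial.map_mul, Polynomial.map_C, Polynomial.map_pow, Polynomial.map_X, map_mul, aeval_C,
        map_pow, aeval_X, Module.End.mul_apply, Module.algebraMap_end_apply, hg, hpow]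
      rfl
  have h0 : aeval x ((minpoly F x).map (φ : F →+* F)) = 0 := by
    apply LinearMap.ext
    intro w
    obtain ⟨v, rfl⟩ := hgs.2 w
    rw [key, minpoly.aeval, LinearMap.zero_apply, hg0, LinearMap.zero_apply]
  refine (minpoly.unique F x ((minpoly.monic hint).map _) h0 ?_)
  intro k hk hk0
  rw [degree_map]
  exact minpoly.min F x hk hk0

theorem exists_dvd [Finite F] (φ : F ≃+* F) (g : V → V) (hgs : Function.Bijective g)
    (hga : ∀ u v, g (u + v) = g u + g v)
    (hg : ∀ (a : F) v, g (a • v) = φ a • g v) (x : Module.End F V) (hx : ∀ v, g (x v) = x (g v)) {s : ℕ}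
    (hs : s.Prime) (hsF : (s : F) ≠ 0) (hxs : x ^ s = 1) (hx1 : x ≠ 1) :
    ∃ i, 1 ≤ i ∧ i ≤ Module.finrank F V ∧ s ∣ Nat.card (fixF φ) ^ i - 1 := by
  classical
  set K := fixF φ with hK
  have hint : IsIntegral F x := Algebra.IsIntegral.isIntegral x
  have hmap := map_minpoly φ g hgs hga hg x hx
  have hlift : minpoly F x ∈ Polynomial.lifts (algebraMap K F) := by
    rw [Polynomial.lifts_iff_coeff_lifts]
    intro n
    have h1 : φ ((minpoly F x).coeff n) = (minpoly F x).coeff n := by
      conv_rhs => rw [← hmap]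
      rw [coeff_map]
      rfl
    exact ⟨⟨_, mem_fixF.2 h1⟩, rfl⟩
  obtain ⟨μ, hμ, hμd, hμm⟩ := Polynomial.lifts_and_natDegree_eq_and_monic hlift (minpoly.monic hint)
  -- the geometric sum
  set Φ : K[X] := ∑ j ∈ Finset.range s, X ^ j with hΦ
  have hmul : (X ^ s - 1 : K[X]) = Φ * (X - 1) := (geom_sum_mul X s).symm
  have hdvd : μ ∣ Φ * (X - 1) := by
    rw [← hmul, ← Polynomial.map_dvd_map' (algebraMap K F), hμ]
    apply minpoly.dvd
    simp [hxs]
  have hncop : ¬ IsCoprime μ Φ := by
    intro hc
    have h1 := hc.dvd_of_dvd_mul_left hdvd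
    rw [← Polynomial.map_dvd_map' (algebraMap K F), hμ] at h1
    obtain ⟨c, hc⟩ := h1
    have h2 : aeval x ((X - 1 : K[X]).map (algebraMap K F)) = 0 := by
      rw [hc, map_mul, minpoly.aeval, zero_mul]
    simp only [Polynomial.map_sub, map_X, Polynomial.map_one, map_sub, aeval_X, map_one] at h2
    exact hx1 (sub_eq_zero.1 h2)
  obtain ⟨ψ, hψ, hψμ, hψΦ⟩ : ∃ ψ : K[X], Irreducible ψ ∧ ψ ∣ μ ∧ ψ ∣ Φ := by
    have h1 : ¬ IsUnit (EuclideanDomain.gcd μ Φ) := by
      rw [EuclideanDomain.gcd_isUnit_iff]
      exact hncop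
    have h2 : EuclideanDomain.gcd μ Φ ≠ 0 := by
      intro h
      exact hμm.ne_zero (EuclideanDomain.gcd_eq_zero_iff.1 h).1
    obtain ⟨ψ, hψ, hd⟩ := WfDvdMonoid.exists_irreducible_factor h1 h2
    exact ⟨ψ, hψ, hd.trans (EuclideanDomain.gcd_dvd_left _ _), hd.trans (EuclideanDomain.gcd_dvd_right _ _)⟩
  have hirr : Fact (Irreducible ψ) := ⟨hψ⟩
  let ζ : AdjoinRoot ψ := AdjoinRoot.root ψ
  have hΦζ : aeval ζ Φ = 0 := by
    rw [AdjoinRoot.aeval_eq, AdjoinRoot.mk_eq_zero]
    exact hψΦ
  have hζs : ζ ^ s = 1 := by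
    have h1 : aeval ζ (X ^ s - 1 : K[X]) = 0 := by rw [hmul, map_mul, hΦζ, zero_mul]
    simp only [map_sub, map_pow, aeval_X, map_one] at h1
    exact sub_eq_zero.1 h1
  have hζ1 : ζ ≠ 1 := by
    intro h
    rw [h, hΦ] at hΦζ
    simp only [map_sum, map_pow, aeval_X, one_pow, Finset.sum_const, Finset.card_range, nsmul_eq_mul, mul_one] at hΦζ
    apply hsF
    have h1 : algebraMap K (AdjoinRoot ψ) (s : K) = 0 := by rw [map_natCast]; exact hΦζ
    have h2 : (s : K) = 0 := (algebraMap K (AdjoinRoot ψ)).injective (by rw [h1, map_zero])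
    have h3 := congrArg (algebraMap K F) h2
    rwa [map_natCast, map_zero] at h3
  have hdeg : ψ.natDegree ≤ Module.finrank F V := by
    have h1 : ψ.natDegree ≤ μ.natDegree := natDegree_le_of_dvd hψμ hμm.ne_zero
    rw [hμd] at h1
    have h2 : (minpoly F x).natDegree ≤ (LinearMap.charpoly x).natDegree :=
      natDegree_le_of_dvd (LinearMap.minpoly_dvd_charpoly x) (LinearMap.charpoly_monic x).ne_zero
    rw [LinearMap.charpoly_natDegree] at h2
    exact h1.trans h2
  refine ⟨ψ.natDegree, hψ.natDegree_pos, hdeg, ?_⟩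
  have hfinK : Finite K := inferInstance
  have hfd : FiniteDimensional K (AdjoinRoot ψ) := (AdjoinRoot.powerBasis hψ.ne_zero).finite
  have hfin : Finite (AdjoinRoot ψ) := Module.finite_of_finite K
  have := Fintype.ofFinite K
  have := Fintype.ofFinite (AdjoinRoot ψ)
  have hcard : Nat.card (AdjoinRoot ψ) = Nat.card K ^ ψ.natDegree := by
    rw [Nat.card_eq_fintype_card, Nat.card_eq_fintype_card, Module.card_eq_pow_finrank (K := K),
      (AdjoinRoot.powerBasis hψ.ne_zero).finrank, AdjoinRoot.powerBasis_dim]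
  have hζ0 : ζ ≠ 0 := by
    rintro h
    rw [h, zero_pow hs.ne_zero] at hζs
    exact zero_ne_one hζs
  have hord : orderOf (Units.mk0 ζ hζ0) = s := by
    have : Fact s.Prime := ⟨hs⟩
    apply orderOf_eq_prime
    · apply Units.ext
      push_cast
      exact hζs
    · intro h
      exact hζ1 (congrArg Units.val h)
  rw [← hcard, Nat.card_eq_fintype_card, ← Fintype.card_units, ← Nat.card_eq_fintype_card, ← hord]
  exact orderOf_dvd_natCard _

end

end Cfsg.Agent.H334.Moved
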