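import Cfsg.Agent.H334.Moved.Eigen
import Cfsg.Agent.H988.CopCyc.Orth
import Cfsg.Agent.H596.FldFacts
import Cfsg.Agent.S0292
import Cfsg.Agent.S0293
import Cfsg.Agent.S0294

/-!
# Coprime automorphisms of orthogonal groups: fixed points (helper334, task 3014 for S4761)
-/

set_option autoImplicit false

namespace Cfsg.Agent.H334.Moved

open QuadraticMap Cfsg.Agent.LieClassical.OrthCore Cfsg.Agent.LieClassical.OrthTrans
  Cfsg.Agent.LieClassical.OrthSimple Cfsg.Agent.LieClassical.OrthForms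
  Cfsg.Agent.ClassicalGeometry.OrthSemi Cfsg.Agent.ClassicalGeometry.OrthSemiForms
open Cfsg.Agent.H596.Fld Cfsg.Agent.H988.CopCyc

/-- The order of the fixed field. -/
theorem card_fixF {F : Type*} [Field F] [Finite F] (φ : F ≃+* F) : Nat.card (fixF φ) ^ orderOf φ = Nat.card F := by
  classical
  have := Fintype.ofFinite F
  have hfin : Finite (F ≃+* F) := Finite.of_injective (fun f : F ≃+* F => (f : F → F)) DFunLike.coe_injective
  have hG : Finite (Subgroup.zpowers φ) := inferInstance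
  have := Fintype.ofFinite (Subgroup.zpowers φ)
  have heq : (fixF φ : Set F) = FixedPoints.subfield (Subgroup.zpowers φ) F := by
    ext a
    constructor
    · intro ha
      rintro ⟨_, n, rfl⟩
      have h1 : φ ∈ MulAction.stabilizer (F ≃+* F) a := ha
      exact (MulAction.stabilizer (F ≃+* F) a).zpow_mem h1 n
    · intro ha
      exact ha ⟨φ, Subgroup.mem_zpowers φ⟩
  have hK : Nat.card (fixF φ) = Nat.card (FixedPoints.subfield (Subgroup.zpowers φ) F) := by
    exact congrArg (fun s : Set F => Nat.card s) heq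
  have h1 : Module.finrank (FixedPoints.subfield (Subgroup.zpowers φ) F) F = orderOf φ := by
    rw [FixedPoints.finrank_eq_card, ← Nat.card_eq_fintype_card, Nat.card_zpowers]
  have := Fintype.ofFinite (FixedPoints.subfield (Subgroup.zpowers φ) F)
  rw [hK, ← h1, Nat.card_eq_fintype_card, Nat.card_eq_fintype_card]
  exact (Module.card_eq_pow_finrank).symm

section

variable {F V : Type*} [Field F] [AddCommGroup V] [Module F V] {Q : QuadraticForm F V}

theorem center_sq (hG : Good Q) {z : ↥(E Q)} (hz : z ∈ Subgroup.center ↥(E Q)) : z * z = 1 := by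
  have hiso : ∀ v, Q (z.1 v) = Q v := fun v => E_le_O z.2 v
  let M : Gam Q := ⟨z.1.toEquiv, RingEquiv.refl F, 1, one_ne_zero, fun u v => map_add z.1 u v,
    fun a v => map_smul z.1 a v, fun v => by rw [one_mul]; exact hiso v⟩
  have hM : conjE Q M = 1 := by
    ext k : 2
    show conjLin M k.1 = k.1
    ext v
    obtain ⟨v, rfl⟩ := M.1.surjective v
    rw [conjLin_apply']
    have h1 := (Subgroup.mem_center_iff.1 hz k)
    have h2 := LinearEquiv.congr_fun (congrArg Subtype.val h1) v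
    exact h2.symm
  obtain ⟨a, ha, hMa⟩ := exists_scalar_of_conjE hG M hM
  obtain ⟨x, y, hxy⟩ := hG.exists_hyp
  have hza : ∀ v, z.1 v = a • v := hMa
  have h1 := polar_map (E_le_O z.2) x y
  rw [hza, hza, polar_smul_left, polar_smul_right, hxy.pair] at h1
  have h2 : a * a = 1 := by
    simpa using h1
  apply Subtype.ext
  apply LinearEquiv.ext
  intro v
  show z.1 (z.1 v) = v
  rw [hza, hza, smul_smul, h2, one_smul]

theorem isSS_pow {φ : F ≃+* F} {c : F} {M : Equiv.Perm V} (h : IsSS Q φ c M) (n : ℕ) :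
    ∃ d, IsSS Q (φ ^ n) d (M ^ n) := by
  induction n with
  | zero => exact ⟨1, one_ne_zero, fun _ _ => rfl, fun _ _ => rfl, fun _ => by rw [one_mul]; rfl⟩
  | succ n ih =>
    obtain ⟨d, hd⟩ := ih
    rw [pow_succ, pow_succ]
    exact ⟨_, hd.mul h⟩

/-- **Fixed points of coprime automorphisms of the orthogonal groups.** -/
theorem orth_core [Finite F] [FiniteDimensional F V] (hG : Good Q)
    [Finite (↥(E Q) ⧸ Subgroup.center ↥(E Q))] (h2 : 2 ∣ Nat.card (↥(E Q) ⧸ Subgroup.center ↥(E Q)))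
    (α : MulAut (↥(E Q) ⧸ Subgroup.center ↥(E Q))) (hα : α ∈ (Psi Q).range) (hp : (orderOf α).Prime)
    (hd : ¬ orderOf α ∣ Nat.card (↥(E Q) ⧸ Subgroup.center ↥(E Q))) :
    ∃ q₀ : ℕ, q₀ ^ orderOf α = Nat.card F ∧ ∀ s : ℕ, s.Prime → s ≠ 2 → (s : F) ≠ 0 → s ∣ Nat.card (fx α) →
      ∃ i, 1 ≤ i ∧ i ≤ Module.finrank F V ∧ s ∣ q₀ ^ i - 1 := by
  obtain ⟨g, rfl⟩ := hα
  obtain ⟨φ, c, hg⟩ := g.2
  have hcop : (Nat.card (Subgroup.zpowers (Psi Q g))).Coprime (Nat.card (↥(E Q) ⧸ Subgroup.center ↥(E Q))) := by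
    rw [Nat.card_zpowers]
    exact (Nat.Prime.coprime_iff_not_dvd hp).2 hd
  have hφ1 : φ ≠ 1 := by
    rintro rfl
    have h1 := eq_one_of_pow_inner hcop (Subgroup.mem_zpowers (Psi Q g)) (n := 4) (fun r hr hd => by
      have h4 : r ∣ 2 ^ 2 := hd
      rwa [(Nat.prime_dvd_prime_iff_eq hr Nat.prime_two).1 (hr.dvd_of_dvd_pow h4)]) (Orth.pow_four_inner hG g hg)
    rw [h1, orderOf_one] at hp
    exact Nat.not_prime_one hp
  have hφp : φ ^ orderOf (Psi Q g) = 1 := by
    have h1 : g ^ orderOf (Psi Q g) ∈ (Psi Q).ker := by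
      rw [MonoidHom.mem_ker, map_pow, pow_orderOf_eq_one]
    rw [ker_Psi hG] at h1
    obtain ⟨a, ha⟩ := h1
    obtain ⟨d, hd'⟩ := isSS_pow hg (orderOf (Psi Q g))
    have hga : ∀ v, (g.1 ^ orderOf (Psi Q g)) v = (a : F) • v := by
      intro v
      have h2 := congrArg Subtype.val ha
      rw [Subgroup.coe_pow] at h2
      rw [← h2]
      rfl
    obtain ⟨x, y, hxy⟩ := hG.exists_hyp
    ext t
    have h3 := hd'.smul t x
    rw [hga, hga, smul_smul, smul_smul] at h3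
    have h4 : ((a : F) * t - (φ ^ orderOf (Psi Q g)) t * (a : F)) • x = 0 := by
      rw [sub_smul, h3, sub_self]
    rcases smul_eq_zero.1 h4 with h5 | h5
    · have h6 : (t - (φ ^ orderOf (Psi Q g)) t) * (a : F) = 0 := by linear_combination h5
      rcases mul_eq_zero.1 h6 with h7 | h7
      · exact (sub_eq_zero.1 h7).symm
      · exact absurd h7 a.ne_zero
    · exact absurd h5 hxy.left_ne
  have hoφ : orderOf φ = orderOf (Psi Q g) := by
    have : Fact (orderOf (Psi Q g)).Prime := ⟨hp⟩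
    exact orderOf_eq_prime hφp hφ1
  refine ⟨Nat.card (fixF φ), by rw [← hoφ]; exact card_fixF φ, ?_⟩
  intro s hs hs2 hsF hsd
  have : Fact s.Prime := ⟨hs⟩
  obtain ⟨⟨y, hyf⟩, hy⟩ := exists_prime_orderOf_dvd_card' s hsd
  rw [Subgroup.orderOf_mk] at hy
  obtain ⟨h, rfl⟩ := QuotientGroup.mk'_surjective (Subgroup.center ↥(E Q)) y
  rw [QuotientGroup.mk'_apply] at hyf hy
  have hyf' : Psi Q g (QuotientGroup.mk h) = QuotientGroup.mk h := hyf
  have hys : (QuotientGroup.mk h : ↥(E Q) ⧸ Subgroup.center ↥(E Q)) ^ s = 1 := by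
    rw [← hy]; exact pow_orderOf_eq_one _
  have hy1 : (QuotientGroup.mk h : ↥(E Q) ⧸ Subgroup.center ↥(E Q)) ≠ 1 := by
    intro h1
    rw [h1, orderOf_one] at hy
    exact hs.one_lt.ne hy
  have hcen : h ^ s ∈ Subgroup.center ↥(E Q) := by
    rw [← QuotientGroup.eq_one_iff, QuotientGroup.mk_pow]
    exact hys
  have hsodd : Odd s := hs.odd_of_ne_two hs2
  obtain ⟨k, hk⟩ := hsodd
  set x : ↥(E Q) := h ^ (s + 1) with hx
  have hxs : x ^ s = 1 := by
    rw [hx, ← pow_mul, mul_comm, pow_mul, hk, show 2 * k + 1 + 1 = 2 * (k + 1) by ring, pow_mul, pow_two, ← hk,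
      center_sq hG hcen, one_pow]
  have hxm : (QuotientGroup.mk x : ↥(E Q) ⧸ Subgroup.center ↥(E Q)) = QuotientGroup.mk h := by
    rw [hx, QuotientGroup.mk_pow, pow_succ, hys, one_mul]
  have hconj : conjE Q g x = x := by
    have h1 : (QuotientGroup.mk (conjE Q g x) : ↥(E Q) ⧸ Subgroup.center ↥(E Q)) = QuotientGroup.mk x := by
      rw [← Psi_mk, hxm]
      exact hyf'
    set z := x⁻¹ * conjE Q g x with hz
    have hzc : z ∈ Subgroup.center ↥(E Q) := QuotientGroup.eq.1 h1.symm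
    have h3 : conjE Q g x = x * z := by rw [hz, mul_inv_cancel_left]
    have h4 : (conjE Q g x) ^ s = 1 := by rw [← map_pow, hxs, map_one]
    have hcxz : Commute x z := Subgroup.mem_center_iff.1 hzc x
    rw [h3, hcxz.mul_pow, hxs, one_mul] at h4
    have h5 : z = 1 := by
      have h6 := h4
      rw [hk, pow_succ, pow_mul, pow_two, center_sq hG hzc, one_pow, one_mul] at h6
      exact h6
    rw [h3, h5, mul_one]
  have hcomm : ∀ v, g.1 (x.1 v) = x.1 (g.1 v) := by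
    intro v
    have h1 := congrArg Subtype.val hconj
    rw [coe_conjE] at h1
    rw [← conjLin_apply', h1]
  refine exists_dvd φ g.1 g.1.bijective hg.add hg.smul (x.1 : V →ₗ[F] V) hcomm hs hsF ?_ ?_
  · apply LinearMap.ext
    intro v
    have h1 : ∀ n : ℕ, ((x.1 : V →ₗ[F] V) ^ n) v = (x ^ n : ↥(E Q)).1 v := by
      intro n
      induction n generalizing v with
      | zero => rfl
      | succ n ih =>
        rw [pow_succ, Module.End.mul_apply, ih, pow_succ]
        rfl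
    rw [h1, hxs]
    rfl
  · intro h1
    apply hy1
    rw [← hxm]
    have h2 : x = 1 := by
      apply Subtype.ext
      apply LinearEquiv.ext
      intro v
      exact LinearMap.congr_fun h1 v
    rw [h2]
    rfl

/-- **Numbers.** Two primes for a coprime automorphism, from the eigenvalue bound. -/
theorem moved_of_bound {S : Type*} [Group S] [Finite S] {α : MulAut S} (hp : (orderOf α).Prime)
    (hd : ¬ orderOf α ∣ Nat.card S) (h2 : 2 ∣ Nat.card S) {q q₀ m N : ℕ} (hq0 : 2 ≤ q₀) (hq : q₀ ^ orderOf α = q)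
    (hm : 1 ≤ m) (hN : N ≤ 2 * m + 2)
    (hnum : ∀ r : ℕ, r.Prime → r ≠ 2 → (r ∣ q → r ∣ Nat.card S) ∧
      ∀ i, 1 ≤ i → i ≤ m → r ∣ q ^ (2 * i) - 1 → r ∣ Nat.card S)
    (hfx : ∀ s : ℕ, s.Prime → s ≠ 2 → ¬ s ∣ q → s ∣ Nat.card (fx α) → ∃ i, 1 ≤ i ∧ i ≤ N ∧ s ∣ q₀ ^ i - 1) :
    Moved α := by
  set p := orderOf α with hpdef
  have hp2 : p ≠ 2 := by
    intro h
    rw [h] at hd
    exact hd h2
  have hpodd := hp.odd_of_ne_two hp2
  obtain ⟨hn1, hn2⟩ := hnum p hp hp2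
  have hpq : ¬ p ∣ q := fun h => hd (hn1 h)
  have hcopq : q.Coprime p := ((Nat.Prime.coprime_iff_not_dvd hp).2 hpq).symm
  have hbig : N < p := by
    by_contra hle
    push Not at hle
    obtain ⟨k, hk⟩ := hpodd
    have hk1 : 1 ≤ k := by
      have := hp.two_le
      omega
    apply hd
    apply hn2 k hk1 (by omega)
    have : Fact p.Prime := ⟨hp⟩
    have h1 := ZMod.pow_card_sub_one_eq_one (p := p) (a := (q : ZMod p)) (fun h => hpq ((ZMod.natCast_eq_zero_iff _ _).1 h))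
    rw [dvd_pow_sub_one_iff (by rw [← hq]; positivity), ← h1]
    congr 1
    omega
  have hq2 : ¬ p ∣ q ^ 2 - 1 := fun h => hd (hn2 1 le_rfl hm h)
  have hqm : q ^ 2 - 1 = (q + 1) * (q - 1) := by
    have := Nat.sq_sub_sq q 1
    rwa [one_pow] at this
  obtain ⟨s₁, s₂, hs₁, hs₂, hne, hd₁, hd₂, ho₁, ho₂, hn₁, hn₂⟩ := exists_primes (q₀ := q₀) hp hp2 hq0
    (by rw [hq]; intro h; exact hq2 (by rw [hqm]; exact h.mul_left _))
    (by rw [hq]; intro h; exact hq2 (by rw [hqm]; exact h.mul_right _))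
  have hferm : ∀ s : ℕ, s.Prime → ¬ s ∣ q₀ → s ∣ q₀ ^ (s - 1) - 1 := by
    intro s hs hsq
    have : Fact s.Prime := ⟨hs⟩
    rw [dvd_pow_sub_one_iff (by omega)]
    exact ZMod.pow_card_sub_one_eq_one (fun h => hsq ((ZMod.natCast_eq_zero_iff _ _).1 h))
  have h12 : s₁ ≠ 2 := by
    rintro rfl
    have h1 := ho₁ _ (hferm 2 hs₁ hn₁)
    exact hp.one_lt.ne' (Nat.dvd_one.1 h1)
  have h22 : s₂ ≠ 2 := by
    rintro rfl
    have h1 := ho₂ _ (hferm 2 hs₂ hn₂)
    have h3 := (dvd_mul_left p 2).trans h1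
    exact hp.one_lt.ne' (Nat.dvd_one.1 h3)
  rw [hq] at hd₁ hd₂
  have hS₁ : s₁ ∣ Nat.card S := (hnum s₁ hs₁ h12).2 1 le_rfl hm (by rw [mul_one, hqm]; exact hd₁.mul_left _)
  have hS₂ : s₂ ∣ Nat.card S := (hnum s₂ hs₂ h22).2 1 le_rfl hm (by rw [mul_one, hqm]; exact hd₂.mul_right _)
  refine moved_of_primes hp hd hs₁ hs₂ hne hS₁ hS₂ ?_ ?_
  · intro h
    obtain ⟨i, hi1, hiN, hi⟩ := hfx s₁ hs₁ h12 (fun h => hn₁ (hs₁.dvd_of_dvd_pow (hq ▸ h))) h
    have := Nat.le_of_dvd (by omega) (ho₁ i hi)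
    omega
  · intro h
    obtain ⟨i, hi1, hiN, hi⟩ := hfx s₂ hs₂ h22 (fun h => hn₂ (hs₂.dvd_of_dvd_pow (hq ▸ h))) h
    have := Nat.le_of_dvd (by omega) ((dvd_mul_left p 2).trans (ho₂ i hi))
    omega

theorem orth_moved [Fintype F] [FiniteDimensional F V] (hG : Good Q)
    [Finite (↥(E Q) ⧸ Subgroup.center ↥(E Q))] (h2 : 2 ∣ Nat.card (↥(E Q) ⧸ Subgroup.center ↥(E Q))) {m : ℕ}
    (hm : 1 ≤ m) (hN : Module.finrank F V ≤ 2 * m + 2)
    (hnum : ∀ r : ℕ, r.Prime → r ≠ 2 → (r ∣ Fintype.card F → r ∣ Nat.card (↥(E Q) ⧸ Subgroup.center ↥(E Q))) ∧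
      ∀ i, 1 ≤ i → i ≤ m → r ∣ Fintype.card F ^ (2 * i) - 1 → r ∣ Nat.card (↥(E Q) ⧸ Subgroup.center ↥(E Q)))
    (α : MulAut (↥(E Q) ⧸ Subgroup.center ↥(E Q))) (hα : α ∈ (Psi Q).range) (hp : (orderOf α).Prime)
    (hd : ¬ orderOf α ∣ Nat.card (↥(E Q) ⧸ Subgroup.center ↥(E Q))) : Moved α := by
  obtain ⟨q₀, hq, hfx⟩ := orth_core hG h2 α hα hp hd
  rw [Nat.card_eq_fintype_card] at hq
  have hq0 : 2 ≤ q₀ := by
    have h1 := Fintype.one_lt_card (α := F)
    rw [← hq] at h1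
    by_contra hlt
    have h3 : q₀ = 0 ∨ q₀ = 1 := by omega
    rcases h3 with rfl | rfl
    · rw [zero_pow hp.ne_zero] at h1
      omega
    · rw [one_pow] at h1
      omega
  refine moved_of_bound hp hd h2 hq0 hq hm hN hnum ?_
  intro s hs hs2 hsq hsd
  refine hfx s hs hs2 ?_ hsd
  intro h0
  apply hsq
  obtain ⟨p, hp⟩ := CharP.exists F
  have hpp : p.Prime := CharP.char_is_prime F p
  obtain ⟨f, -, hF⟩ := FiniteField.card F p
  have h1 : p ∣ s := (CharP.cast_eq_zero_iff F p s).1 h0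
  rw [← (Nat.prime_dvd_prime_iff_eq hpp hs).1 h1, hF]
  exact dvd_pow_self _ f.ne_zero

end

section rows

variable {F : Type} [Field F] [Fintype F]

open Cfsg.Agent.Schreier.ClassPOmega

/-- divisibility by odd primes through a factor which is a power of 2 -/
theorem dvd_of_gcd_four {r k c n : ℕ} (hr : r.Prime) (hr2 : r ≠ 2) (h : Nat.gcd 4 k * c = n) (hn : r ∣ n) : r ∣ c := by
  rw [← h] at hn
  rcases (Nat.Prime.dvd_mul hr).1 hn with h1 | h1
  · exfalso
    have h3 : r ∣ 2 ^ 2 := h1.trans (Nat.gcd_dvd_left _ _)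
    exact hr2 ((Nat.prime_dvd_prime_iff_eq hr Nat.prime_two).1 (hr.dvd_of_dvd_pow h3))
  · exact h1

theorem dvd_prod_aux {q m i : ℕ} (h1 : 1 ≤ i) (hi : i ≤ m) :
    q ^ (2 * i) - 1 ∣ ∏ j ∈ Finset.range m, (q ^ (2 * (j + 1)) - 1) := by
  have := Finset.dvd_prod_of_mem (fun j => q ^ (2 * (j + 1)) - 1) (a := i - 1) (s := Finset.range m)
    (Finset.mem_range.2 (by omega))
  rwa [Nat.sub_add_cancel h1] at this

/-- **`Ω_{2m+1}(q)`, `q` odd.** -/
theorem twoMoved_odd {m : ℕ} (hm : 3 ≤ m) (hodd : Odd (Fintype.card F))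
    (h2 : 2 ∣ Nat.card (Cfsg.POmega F (Cfsg.quadFormOdd m F))) : TwoMoved (Cfsg.POmega F (Cfsg.quadFormOdd m F)) := by
  have h20 : (2 : F) ≠ 0 := by
    intro h
    obtain ⟨p, hp⟩ := CharP.exists F
    have hpp : p.Prime := CharP.char_is_prime F p
    obtain ⟨f, -, hF⟩ := FiniteField.card F p
    have h1 : p ∣ 2 := (CharP.cast_eq_zero_iff F p 2).1 (by exact_mod_cast h)
    have h3 := (Nat.prime_dvd_prime_iff_eq hpp Nat.prime_two).1 h1
    rw [hF, h3] at hodd
    exact (Nat.not_odd_iff_even.2 ((Nat.even_pow.2 ⟨even_two, f.ne_zero⟩))) hodd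
  have hG := good_odd (F := F) (m := m) (by omega) h20
  have e := pomegaEquiv hG
  rw [coe_oddForm] at e
  have hnum := Cfsg.Agent.S0292.result (F := F) rfl hodd m hm
  refine TwoMoved.congr e ?_
  rw [Nat.card_congr e.toEquiv] at h2 hnum
  have hfin := Orth.finite_quot (oddForm m F)
  intro α hp hd
  refine orth_moved hG h2 (m := m) (by omega) ?_ ?_ α ?_ hp hd
  · rw [Module.finrank_fintype_fun_eq_card]
    simp
    omega
  · intro r hr hr2
    have key : ∀ n, r ∣ n → n ∣ Fintype.card F ^ (m ^ 2) * ∏ i ∈ Finset.range m, (Fintype.card F ^ (2 * (i + 1)) - 1) →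
        r ∣ Nat.card (↥(E (oddForm m F)) ⧸ Subgroup.center ↥(E (oddForm m F))) := by
      intro n h1 h3
      have h4 := h1.trans h3
      rw [← hnum] at h4
      rcases (Nat.Prime.dvd_mul hr).1 h4 with h5 | h5
      · exact absurd ((Nat.prime_dvd_prime_iff_eq hr Nat.prime_two).1 h5) hr2
      · exact h5
    refine ⟨fun h => key _ h ((dvd_pow_self _ (by positivity)).mul_right _), fun i h1 hi h => key _ h ?_⟩
    exact (dvd_prod_aux h1 hi).mul_left _
  · rw [MonoidHom.range_eq_top.2 (Cfsg.Agent.AutOrth.Final.surjective_odd hm h20)]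
    trivial

/-- **`PΩ⁻_{2m}(q)`.** -/
theorem twoMoved_minus {m : ℕ} (hm : 4 ≤ m) (a b : F)
    (hab : ∀ z₁ z₂ : F, z₁ ^ 2 + a * z₁ * z₂ + b * z₂ ^ 2 = 0 → z₁ = 0 ∧ z₂ = 0)
    (h2 : 2 ∣ Nat.card (Cfsg.POmega F (Cfsg.quadFormMinus (m - 1) F a b))) :
    TwoMoved (Cfsg.POmega F (Cfsg.quadFormMinus (m - 1) F a b)) := by
  have hG := good_minus (F := F) (m := m - 1) (by omega) a b hab
  have e := pomegaEquiv hG
  rw [coe_minusForm] at e
  have hnum := Cfsg.Agent.S0294.result (F := F) rfl m hm a b hab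
  refine TwoMoved.congr e ?_
  rw [Nat.card_congr e.toEquiv] at h2 hnum
  have hfin := Orth.finite_quot (minusForm (m - 1) F a b)
  intro α hp hd
  refine orth_moved hG h2 (m := m - 1) (by omega) ?_ ?_ α ?_ hp hd
  · rw [Module.finrank_fintype_fun_eq_card]
    simp
    omega
  · intro r hr hr2
    refine ⟨fun h => dvd_of_gcd_four hr hr2 hnum ?_, fun i h1 hi h => dvd_of_gcd_four hr hr2 hnum ?_⟩
    · refine Dvd.dvd.mul_right (Dvd.dvd.mul_right (h.trans (dvd_pow_self _ ?_)) _) _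
      have : 0 < m * (m - 1) := Nat.mul_pos (by omega) (by omega)
      omega
    · exact (h.trans (dvd_prod_aux h1 hi)).mul_left _
  · rw [MonoidHom.range_eq_top.2 (Cfsg.Agent.AutOrth.Final.surjective_minus (by omega) hab)]
    trivial

/-- **`PΩ⁺_{2m}(q)`.** -/
theorem twoMoved_plus {m : ℕ} (hm : 4 ≤ m) (h2 : 2 ∣ Nat.card (Cfsg.POmega F (Cfsg.quadFormPlus m F)))
    (h3 : 3 ∣ Nat.card (Cfsg.POmega F (Cfsg.quadFormPlus m F))) :
    TwoMoved (Cfsg.POmega F (Cfsg.quadFormPlus m F)) := by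
  have hG := good_plus (F := F) (m := m) (by omega)
  have e := pomegaEquiv hG
  rw [coe_plusForm] at e
  have hnum := Cfsg.Agent.S0293.result (F := F) rfl m hm
  refine TwoMoved.congr e ?_
  rw [Nat.card_congr e.toEquiv] at h2 h3 hnum
  have hfin := Orth.finite_quot (plusForm m F)
  intro α hp hd
  refine orth_moved hG h2 (m := m - 1) (by omega) ?_ ?_ α ?_ hp hd
  · rw [Module.finrank_fintype_fun_eq_card]
    simp
    omega
  · intro r hr hr2
    refine ⟨fun h => dvd_of_gcd_four hr hr2 hnum ?_, fun i h1 hi h => dvd_of_gcd_four hr hr2 hnum ?_⟩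
    · refine Dvd.dvd.mul_right (Dvd.dvd.mul_right (h.trans (dvd_pow_self _ ?_)) _) _
      have : 0 < m * (m - 1) := Nat.mul_pos (by omega) (by omega)
      omega
    · exact (h.trans (dvd_prod_aux h1 hi)).mul_left _
  · by_cases h : m = 4
    · subst h
      have hidx := Cfsg.Agent.AutOrth.Final.index_plus_four (F := F)
      have h2' : ¬ 2 ∣ Nat.card (Subgroup.zpowers α) := by
        rw [Nat.card_zpowers]
        intro h
        rw [(Nat.prime_dvd_prime_iff_eq Nat.prime_two hp).1 h] at h2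
        exact hd h2
      have h3' : ¬ 3 ∣ Nat.card (Subgroup.zpowers α) := by
        rw [Nat.card_zpowers]
        intro h
        rw [(Nat.prime_dvd_prime_iff_eq Nat.prime_three hp).1 h] at h3
        exact hd h3
      exact le_of_index_le_four _ (Subgroup.zpowers α) (by rw [hidx]; norm_num) (by rw [hidx]; norm_num) h2' h3'
        (Subgroup.mem_zpowers α)
    · rw [MonoidHom.range_eq_top.2 (Cfsg.Agent.AutOrth.Final.surjective_plus (by omega))]
      trivial

end rows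

end Cfsg.Agent.H334.Moved
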