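import Cfsg.Agent.H334.Moved.Orth
import Cfsg.Prelude.Def_LieTypeChar

/-!
# Coprime automorphisms of the orthogonal groups move classes of two different orders (helper334, for S4761)
-/

set_option autoImplicit false

namespace Cfsg.Agent.H334.Moved

open Cfsg Cfsg.Agent.H596.Fld

theorem eight_dvd {q a : ℕ} (ha : 3 ≤ a) {M : ℕ} (hM : q ^ 2 - 1 ∣ M) : 8 ∣ q ^ a * M := by
  rcases Nat.even_or_odd q with h | h
  · obtain ⟨k, hk⟩ := h
    obtain ⟨b, rfl⟩ := Nat.exists_eq_add_of_le ha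
    refine Dvd.dvd.mul_right ?_ _
    rw [pow_add]
    refine Dvd.dvd.mul_right ?_ _
    rw [hk]
    exact ⟨k ^ 3, by ring⟩
  · refine Dvd.dvd.mul_left (dvd_trans ?_ hM) _
    obtain ⟨k, hk⟩ := h
    have h1 : q ^ 2 - 1 = 4 * (k * (k + 1)) := by
      rw [hk, Nat.sub_eq_iff_eq_add (Nat.one_le_pow _ _ (by omega))]
      ring
    obtain ⟨l, hl⟩ := Nat.even_mul_succ_self k
    rw [h1, hl]
    exact ⟨l, by ring⟩

theorem two_dvd_of_gcd {k c n : ℕ} (h : Nat.gcd 4 k * c = n) (hn : 8 ∣ n) : 2 ∣ c := by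
  have h1 : 8 ∣ 4 * c := by
    rw [← h] at hn
    exact hn.trans (mul_dvd_mul_right (Nat.gcd_dvd_left _ _) _)
  omega

theorem three_dvd {q a : ℕ} (ha : 1 ≤ a) (hq : 1 ≤ q) {M : ℕ} (hM : q ^ 2 - 1 ∣ M) : 3 ∣ q ^ a * M := by
  have h3 : q % 3 = 0 ∨ q % 3 = 1 ∨ q % 3 = 2 := by omega
  have e : q ^ 2 - 1 = (q + 1) * (q - 1) := by
    have := Nat.sq_sub_sq q 1
    rwa [one_pow] at this
  rcases h3 with h | h | h
  · exact Dvd.dvd.mul_right ((Nat.dvd_of_mod_eq_zero h).trans (dvd_pow_self _ (by omega))) _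
  · have h1 : 3 ∣ q - 1 := by omega
    exact Dvd.dvd.mul_left (((h1.mul_left _).trans e.symm.dvd).trans hM) _
  · have h1 : 3 ∣ q + 1 := by omega
    exact Dvd.dvd.mul_left (((h1.mul_right _).trans e.symm.dvd).trans hM) _

/-- MOVED-OMINUS -/
theorem row_ominus {r : ℕ} {G : Type*} [Group G] [Finite G] [IsSimpleGroup G] (_hc : ∃ a b : G, a * b ≠ b * a)
    (hG : IsPOmegaMinusChar r G) : TwoMoved G := by
  obtain ⟨F, _, _, _, m, a, b, hm, hab, ⟨e⟩⟩ := hG
  have hnum := Cfsg.Agent.S0294.result (F := F) rfl m hm a b hab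
  refine TwoMoved.congr e (twoMoved_minus hm a b hab (two_dvd_of_gcd hnum ?_))
  rw [mul_assoc]
  have h1 : 0 < m * (m - 1) := Nat.mul_pos (by omega) (by omega)
  have h2 : 3 ≤ m * (m - 1) := by
    calc 3 ≤ 4 * 3 := by norm_num
      _ ≤ m * (m - 1) := Nat.mul_le_mul hm (by omega)
  refine eight_dvd h2 (Dvd.dvd.mul_left ?_ _)
  have := dvd_prod_aux (q := Fintype.card F) (m := m - 1) (i := 1) le_rfl (by omega)
  rwa [mul_one] at this

/-- MOVED-OPLUS -/
theorem row_oplus {r : ℕ} {G : Type*} [Group G] [Finite G] [IsSimpleGroup G] (_hc : ∃ a b : G, a * b ≠ b * a)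
    (hG : IsPOmegaPlusChar r G) : TwoMoved G := by
  obtain ⟨F, _, _, _, m, hm, ⟨e⟩⟩ := hG
  have hnum := Cfsg.Agent.S0293.result (F := F) rfl m hm
  have h2 : 3 ≤ m * (m - 1) := by
    calc 3 ≤ 4 * 3 := by norm_num
      _ ≤ m * (m - 1) := Nat.mul_le_mul hm (by omega)
  have h0 := dvd_prod_aux (q := Fintype.card F) (m := m - 1) (i := 1) le_rfl (by omega)
  rw [mul_one] at h0
  refine TwoMoved.congr e (twoMoved_plus hm (two_dvd_of_gcd hnum ?_)
    (dvd_of_gcd_four Nat.prime_three (by norm_num) hnum ?_))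
  · rw [mul_assoc]
    exact eight_dvd h2 (h0.mul_left _)
  · rw [mul_assoc]
    exact three_dvd (by omega) Fintype.card_pos (h0.mul_left _)

/-- MOVED-OODD -/
theorem row_oodd {r : ℕ} {G : Type*} [Group G] [Finite G] [IsSimpleGroup G] (_hc : ∃ a b : G, a * b ≠ b * a)
    (hG : IsPOmegaOddChar r G) : TwoMoved G := by
  obtain ⟨F, _, _, _, m, hm, hodd, ⟨e⟩⟩ := hG
  have hnum := Cfsg.Agent.S0292.result (F := F) rfl hodd m hm
  have h0 := dvd_prod_aux (q := Fintype.card F) (m := m) (i := 1) le_rfl (by omega)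
  rw [mul_one] at h0
  refine TwoMoved.congr e (twoMoved_odd hm hodd ?_)
  have h1 := eight_dvd (q := Fintype.card F) (a := m ^ 2) (by nlinarith) h0
  rw [← hnum] at h1
  omega

end Cfsg.Agent.H334.Moved
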